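import Mathlib

/-!
# Orthogonal frames: commuting copies of SL2(F) in a finite group

`Fr G F n`: `n` commuting embedded copies of `SL2(F)`.  The subgroup `M` of the elements which permute the
unipotent classes of the copies has order divisible by `(q + 1) ^ n * |T| * |pi(M)|`.
-/

set_option autoImplicit false

namespace Cfsg.Agent.H158.K547

open Matrix Pointwise

universe u v

section SL

variable {F : Type v} [Field F]

/-- upper unitriangular -/
def ut (t : F) : Matrix.SpecialLinearGroup (Fin 2) F := ⟨!![1, t; 0, 1], by simp [Matrix.det_fin_two]⟩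

/-- lower unitriangular -/
def lo (t : F) : Matrix.SpecialLinearGroup (Fin 2) F := ⟨!![1, 0; t, 1], by simp [Matrix.det_fin_two]⟩

/-- the Weyl element -/
def wt : Matrix.SpecialLinearGroup (Fin 2) F := ⟨!![0, 1; -1, 0], by simp [Matrix.det_fin_two]⟩

theorem ext_iff' {x y : Matrix.SpecialLinearGroup (Fin 2) F} (h0 : x.1 0 0 = y.1 0 0) (h1 : x.1 0 1 = y.1 0 1)
    (h2 : x.1 1 0 = y.1 1 0) (h3 : x.1 1 1 = y.1 1 1) : x = y := by
  apply Subtype.ext
  ext i j
  fin_cases i <;> fin_cases j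
  exacts [h0, h1, h2, h3]

theorem mul00 (x y : Matrix.SpecialLinearGroup (Fin 2) F) :
    (x * y).1 0 0 = x.1 0 0 * y.1 0 0 + x.1 0 1 * y.1 1 0 := by
  rw [Matrix.SpecialLinearGroup.coe_mul, Matrix.mul_apply, Fin.sum_univ_two]

theorem mul01 (x y : Matrix.SpecialLinearGroup (Fin 2) F) :
    (x * y).1 0 1 = x.1 0 0 * y.1 0 1 + x.1 0 1 * y.1 1 1 := by
  rw [Matrix.SpecialLinearGroup.coe_mul, Matrix.mul_apply, Fin.sum_univ_two]

theorem mul10 (x y : Matrix.SpecialLinearGroup (Fin 2) F) :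
    (x * y).1 1 0 = x.1 1 0 * y.1 0 0 + x.1 1 1 * y.1 1 0 := by
  rw [Matrix.SpecialLinearGroup.coe_mul, Matrix.mul_apply, Fin.sum_univ_two]

theorem mul11 (x y : Matrix.SpecialLinearGroup (Fin 2) F) :
    (x * y).1 1 1 = x.1 1 0 * y.1 0 1 + x.1 1 1 * y.1 1 1 := by
  rw [Matrix.SpecialLinearGroup.coe_mul, Matrix.mul_apply, Fin.sum_univ_two]

@[simp] theorem ut00 (t : F) : (ut t).1 0 0 = 1 := rfl
@[simp] theorem ut01 (t : F) : (ut t).1 0 1 = t := rfl
@[simp] theorem ut10 (t : F) : (ut t).1 1 0 = 0 := rfl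
@[simp] theorem ut11 (t : F) : (ut t).1 1 1 = 1 := rfl
@[simp] theorem lo00 (t : F) : (lo t).1 0 0 = 1 := rfl
@[simp] theorem lo01 (t : F) : (lo t).1 0 1 = 0 := rfl
@[simp] theorem lo10 (t : F) : (lo t).1 1 0 = t := rfl
@[simp] theorem lo11 (t : F) : (lo t).1 1 1 = 1 := rfl
@[simp] theorem wt00 : (wt (F := F)).1 0 0 = 0 := rfl
@[simp] theorem wt01 : (wt (F := F)).1 0 1 = 1 := rfl
@[simp] theorem wt10 : (wt (F := F)).1 1 0 = -1 := rfl
@[simp] theorem wt11 : (wt (F := F)).1 1 1 = 0 := rfl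

theorem ut_mul (s t : F) : ut s * ut t = ut (s + t) := by
  apply ext_iff' <;> simp only [mul00, mul01, mul10, mul11, ut00, ut01, ut10, ut11] <;> ring

theorem lo_mul (s t : F) : lo s * lo t = lo (s + t) := by
  apply ext_iff' <;> simp only [mul00, mul01, mul10, mul11, lo00, lo01, lo10, lo11] <;> ring

theorem ut_zero : ut (0 : F) = 1 := by
  apply Subtype.ext
  ext i j
  fin_cases i <;> fin_cases j <;> simp [ut]

theorem lo_zero : lo (0 : F) = 1 := by
  apply Subtype.ext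
  ext i j
  fin_cases i <;> fin_cases j <;> simp [lo]

theorem lo_inv (s : F) : (lo s)⁻¹ = lo (-s) := by
  rw [inv_eq_iff_mul_eq_one, lo_mul, add_neg_cancel, lo_zero]

theorem ut_inv (s : F) : (ut s)⁻¹ = ut (-s) := by
  rw [inv_eq_iff_mul_eq_one, ut_mul, add_neg_cancel, ut_zero]

theorem det_eq (x : Matrix.SpecialLinearGroup (Fin 2) F) : x.1 0 0 * x.1 1 1 - x.1 0 1 * x.1 1 0 = 1 := by
  have h := x.2
  rwa [Matrix.det_fin_two] at h

theorem inv00 (x : Matrix.SpecialLinearGroup (Fin 2) F) : (x⁻¹).1 0 0 = x.1 1 1 := by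
  rw [Matrix.SpecialLinearGroup.coe_inv, Matrix.adjugate_fin_two]; rfl
theorem inv01 (x : Matrix.SpecialLinearGroup (Fin 2) F) : (x⁻¹).1 0 1 = -x.1 0 1 := by
  rw [Matrix.SpecialLinearGroup.coe_inv, Matrix.adjugate_fin_two]; rfl
theorem inv10 (x : Matrix.SpecialLinearGroup (Fin 2) F) : (x⁻¹).1 1 0 = -x.1 1 0 := by
  rw [Matrix.SpecialLinearGroup.coe_inv, Matrix.adjugate_fin_two]; rfl
theorem inv11 (x : Matrix.SpecialLinearGroup (Fin 2) F) : (x⁻¹).1 1 1 = x.1 0 0 := by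
  rw [Matrix.SpecialLinearGroup.coe_inv, Matrix.adjugate_fin_two]; rfl

/-- conjugates of unitriangular elements -/
theorem conj_ut (x : Matrix.SpecialLinearGroup (Fin 2) F) (a : F) :
    (x * ut a * x⁻¹).1 0 0 = 1 - a * x.1 0 0 * x.1 1 0 ∧ (x * ut a * x⁻¹).1 0 1 = a * x.1 0 0 ^ 2 ∧
    (x * ut a * x⁻¹).1 1 0 = -(a * x.1 1 0 ^ 2) ∧ (x * ut a * x⁻¹).1 1 1 = 1 + a * x.1 0 0 * x.1 1 0 := by
  have h := det_eq x
  simp only [mul00, mul01, mul10, mul11, ut00, ut01, ut10, ut11, inv00, inv01, inv10, inv11]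
  refine ⟨?_, ?_, ?_, ?_⟩
  · linear_combination h
  · ring
  · ring
  · linear_combination h

/-- a conjugate of `ut a`, `a ≠ 0`, which is `ut b`: the conjugating element is upper triangular, `b = a p²` -/
theorem conj_ut_eq {x : Matrix.SpecialLinearGroup (Fin 2) F} {a b : F} (ha : a ≠ 0)
    (h : x * ut a * x⁻¹ = ut b) : x.1 1 0 = 0 ∧ b = a * x.1 0 0 ^ 2 := by
  obtain ⟨_, h1, h2, _⟩ := conj_ut x a
  rw [h] at h1 h2
  simp only [ut01, ut10] at h1 h2
  refine ⟨?_, h1⟩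
  have h3 : a * x.1 1 0 ^ 2 = 0 := neg_eq_zero.1 h2.symm
  rcases mul_eq_zero.1 h3 with h4 | h4
  · exact absurd h4 ha
  · exact pow_eq_zero_iff (two_ne_zero) |>.1 h4

theorem conj_ut_of {x : Matrix.SpecialLinearGroup (Fin 2) F} (hx : x.1 1 0 = 0) (a : F) :
    x * ut a * x⁻¹ = ut (a * x.1 0 0 ^ 2) := by
  obtain ⟨h0, h1, h2, h3⟩ := conj_ut x a
  apply ext_iff'
  · rw [h0, hx]; simp
  · rw [h1]; simp
  · rw [h2, hx]; simp
  · rw [h3, hx]; simp

/-- generation -/
theorem exists_word (x : Matrix.SpecialLinearGroup (Fin 2) F) :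
    ∃ a b c d : F, x = lo a * ut b * lo c * ut d := by
  have h := det_eq x
  by_cases hc : x.1 1 0 = 0
  · have ha : x.1 0 0 ≠ 0 := by
      intro ha
      rw [ha, hc] at h
      simp at h
    refine ⟨-1, (x.1 0 0 - 1) / x.1 0 0, x.1 0 0, ((x.1 0 1 + x.1 1 1) - 1) / x.1 0 0, ?_⟩
    apply ext_iff' <;> simp only [mul00, mul01, mul10, mul11, ut00, ut01, ut10, ut11, lo00, lo01, lo10, lo11] <;>
      field_simp
    · ring
    · rw [hc] at h
      linear_combination (-1 : F) * h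
    · rw [hc]; ring
    · rw [hc] at h
      linear_combination h
  · refine ⟨0, (x.1 0 0 - 1) / x.1 1 0, x.1 1 0, (x.1 1 1 - 1) / x.1 1 0, ?_⟩
    apply ext_iff' <;> simp only [mul00, mul01, mul10, mul11, ut00, ut01, ut10, ut11, lo00, lo01, lo10, lo11] <;>
      field_simp
    · ring
    · linear_combination (-1 : F) * h
    · ring
    · ring

end SL

/-- a frame: `n` commuting embedded copies of `SL2(F)` -/
structure Fr (G : Type u) [Group G] (F : Type v) [Field F] (n : ℕ) where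
  φ : Fin n → (Matrix.SpecialLinearGroup (Fin 2) F →* G)
  comm : ∀ i j, i ≠ j → ∀ x y, φ i x * φ j y = φ j y * φ i x
  inj : ∀ i, Function.Injective (φ i)

namespace Fr

variable {G : Type u} [Group G] {F : Type v} [Field F] {n : ℕ} (S : Fr G F n)

/-- `g` maps the `i`-th copy to the `σ i`-th one and scales the upper root group by `c i` -/
def Acts (g : G) (σ : Equiv.Perm (Fin n)) (c : Fin n → F) : Prop :=
  (∀ i, c i ≠ 0) ∧ (∀ i t, g * S.φ i (ut t) * g⁻¹ = S.φ (σ i) (ut (c i * t))) ∧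
    ∀ i t, ∃ y, g * S.φ i (lo t) * g⁻¹ = S.φ (σ i) y

/-- the class of `ut a` in the `i`-th copy -/
def Cl (i : Fin n) (a : F) : Set G := {g | ∃ x, g = S.φ i (x * ut a * x⁻¹)}

theorem mem_Cl (i : Fin n) (a : F) : S.φ i (ut a) ∈ S.Cl i a := ⟨1, by simp⟩

/-- the classes are distinct -/
theorem Cl_inj {i j : Fin n} {a b : F} (ha : a ≠ 0) (hb : b ≠ 0) (h : S.Cl i a = S.Cl j b) :
    i = j ∧ IsSquare (a * b) := by
  have h1 : S.φ i (ut a) ∈ S.Cl j b := h ▸ S.mem_Cl i a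
  obtain ⟨x, hx⟩ := h1
  by_cases hij : i = j
  · subst hij
    refine ⟨rfl, ?_⟩
    have h2 := S.inj i hx
    obtain ⟨_, h4⟩ := conj_ut_eq hb h2.symm
    exact ⟨b * x.1 0 0, by rw [h4]; ring⟩
  · exfalso
    have h3 := S.comm j i (Ne.symm hij) (x * ut b * x⁻¹) (lo 1)
    rw [← hx, ← map_mul, ← map_mul] at h3
    have h4 := S.inj i h3
    have h5 := congrArg (fun y => y.1 0 0) h4
    simp only [mul00, ut00, ut01, lo00, lo01, lo10, ut10] at h5
    apply ha
    linear_combination h5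

theorem Cl_eq {i : Fin n} {a b : F} (ha : a ≠ 0) (hb : b ≠ 0) (h : IsSquare (a * b)) : S.Cl i a = S.Cl i b := by
  obtain ⟨s, hs⟩ := h
  have key : ∀ a b : F, a ≠ 0 → b ≠ 0 → a * b = s * s → S.Cl i b ⊆ S.Cl i a := by
    intro a b ha hb hs
    have hs0 : s ≠ 0 := by
      rintro rfl
      rw [mul_zero] at hs
      exact (mul_ne_zero ha hb) hs
    rintro g ⟨x, rfl⟩
    let d : Matrix.SpecialLinearGroup (Fin 2) F :=
      ⟨!![s / a, 0; 0, a / s], by rw [Matrix.det_fin_two_of]; field_simp; ring⟩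
    have hd : d * ut a * d⁻¹ = ut b := by
      rw [conj_ut_of (x := d) rfl]
      congr 1
      change a * (s / a) ^ 2 = b
      field_simp
      rw [pow_two, ← hs]
    refine ⟨x * d, ?_⟩
    rw [← hd]
    congr 1
    group
  exact Set.Subset.antisymm (key b a hb ha (by rw [mul_comm, hs])) (key a b ha hb hs)

theorem Acts.map {g : G} {σ : Equiv.Perm (Fin n)} {c : Fin n → F} (h : S.Acts g σ c) (i : Fin n)
    (x : Matrix.SpecialLinearGroup (Fin 2) F) : ∃ y, g * S.φ i x * g⁻¹ = S.φ (σ i) y := by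
  obtain ⟨hc, hu, hl⟩ := h
  obtain ⟨a', b', c', d', rfl⟩ := exists_word x
  obtain ⟨y1, h1⟩ := hl i a'
  obtain ⟨y2, h2⟩ := hl i c'
  refine ⟨y1 * ut (c i * b') * y2 * ut (c i * d'), ?_⟩
  rw [map_mul, map_mul, map_mul, map_mul, map_mul, map_mul, ← h1, ← hu, ← h2, ← hu]
  group

/-- an acting element permutes the classes -/
theorem Acts.conj [Finite G] {g : G} {σ : Equiv.Perm (Fin n)} {c : Fin n → F} (h : S.Acts g σ c) (i : Fin n)
    (a : F) : MulAut.conj g • S.Cl i a = S.Cl (σ i) (c i * a) := by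
  haveI : Finite (Matrix.SpecialLinearGroup (Fin 2) F) := Finite.of_injective _ (S.inj i)
  have h1 : ∀ x, ∃ y, g * S.φ i x * g⁻¹ = S.φ (σ i) y := h.map S i
  obtain ⟨hc, hu, hl⟩ := h
  choose α hα using h1
  have hinj : Function.Injective α := by
    intro x y hxy
    have h2 := hα x
    rw [hxy, ← hα y] at h2
    have h3 : S.φ i x = S.φ i y := by
      have := mul_right_cancel h2
      exact mul_left_cancel this
    exact S.inj i h3
  have hsur := Finite.surjective_of_injective hinj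
  ext z
  rw [Set.mem_smul_set]
  constructor
  · rintro ⟨_, ⟨x, rfl⟩, rfl⟩
    refine ⟨α x, ?_⟩
    rw [MulAut.smul_def, MulAut.conj_apply, map_mul, map_mul, map_mul, map_mul, ← hα, ← hu, map_inv, map_inv, ← hα]
    group
  · rintro ⟨y, rfl⟩
    obtain ⟨x, rfl⟩ := hsur y
    refine ⟨_, ⟨x, rfl⟩, ?_⟩
    rw [MulAut.smul_def, MulAut.conj_apply, map_mul, map_mul, map_mul, map_mul, ← hα, ← hu, map_inv, map_inv, ← hα]
    group

/-- permuting the classes -/
def PermCl (g : G) (σ : Equiv.Perm (Fin n)) (c : Fin n → F) : Prop :=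
  (∀ i, c i ≠ 0) ∧ ∀ i a, a ≠ 0 → MulAut.conj g • S.Cl i a = S.Cl (σ i) (c i * a)

theorem PermCl.mul {g h : G} {σ τ : Equiv.Perm (Fin n)} {c d : Fin n → F} (hg : S.PermCl g σ c)
    (hh : S.PermCl h τ d) : S.PermCl (g * h) (σ * τ) (fun i => c (τ i) * d i) := by
  refine ⟨fun i => mul_ne_zero (hg.1 _) (hh.1 _), fun i a ha => ?_⟩
  rw [map_mul, mul_smul, hh.2 i a ha, hg.2 _ _ (mul_ne_zero (hh.1 i) ha), mul_assoc]
  rfl

theorem PermCl.one : S.PermCl (1 : G) 1 (fun _ => 1) := by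
  refine ⟨fun i => one_ne_zero, fun i a _ => ?_⟩
  rw [map_one, one_smul, one_mul]
  rfl

theorem PermCl.inv {g : G} {σ : Equiv.Perm (Fin n)} {c : Fin n → F} (hg : S.PermCl g σ c) :
    S.PermCl g⁻¹ σ⁻¹ (fun i => (c (σ⁻¹ i))⁻¹) := by
  refine ⟨fun i => inv_ne_zero (hg.1 _), fun i a ha => ?_⟩
  have h1 := hg.2 (σ⁻¹ i) ((c (σ⁻¹ i))⁻¹ * a) (mul_ne_zero (inv_ne_zero (hg.1 _)) ha)
  rw [mul_inv_cancel_left₀ (hg.1 _), show σ (σ⁻¹ i) = i from σ.apply_symm_apply i] at h1
  rw [← h1, ← mul_smul, ← map_mul, inv_mul_cancel, map_one, one_smul]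

/-- uniqueness -/
theorem PermCl.unique {g : G} {σ τ : Equiv.Perm (Fin n)} {c d : Fin n → F} (h1 : S.PermCl g σ c)
    (h2 : S.PermCl g τ d) : σ = τ ∧ ∀ i, IsSquare (c i * d i) := by
  have h : ∀ i, σ i = τ i ∧ IsSquare (c i * d i) := by
    intro i
    have h3 := h1.2 i 1 one_ne_zero
    rw [h2.2 i 1 one_ne_zero, mul_one, mul_one] at h3
    obtain ⟨h4, h5⟩ := S.Cl_inj (h2.1 i) (h1.1 i) h3
    exact ⟨h4.symm, by rwa [mul_comm]⟩
  exact ⟨Equiv.ext fun i => (h i).1, fun i => (h i).2⟩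

/-- the stabiliser of the frame -/
def M : Subgroup G where
  carrier := {g | ∃ σ c, S.PermCl g σ c}
  mul_mem' := by
    rintro g h ⟨σ, c, hg⟩ ⟨τ, d, hh⟩
    exact ⟨_, _, hg.mul S hh⟩
  one_mem' := ⟨_, _, PermCl.one S⟩
  inv_mem' := by
    rintro g ⟨σ, c, hg⟩
    exact ⟨_, _, hg.inv S⟩

/-- the permutation of the frame -/
noncomputable def π : ↥S.M →* Equiv.Perm (Fin n) where
  toFun g := g.2.choose
  map_one' := ((One.one : ↥S.M).2.choose_spec.choose_spec.unique S (PermCl.one S)).1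
  map_mul' g h := ((g * h).2.choose_spec.choose_spec.unique S
    ((g.2.choose_spec.choose_spec).mul S h.2.choose_spec.choose_spec)).1

end Fr

/-- the quadratic character with values in `ZMod 2` -/
noncomputable def sqc {F : Type v} [Field F] (a : F) : ZMod 2 := by
  classical
  exact if IsSquare a then 0 else 1

theorem sqc_eq_zero {F : Type v} [Field F] {a : F} : sqc a = 0 ↔ IsSquare a := by
  unfold sqc
  split_ifs with h
  · simp [h]
  · simp [h]

theorem sqc_mul {F : Type v} [Field F] [Finite F] {a b : F} (ha : a ≠ 0) (hb : b ≠ 0) :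
    sqc (a * b) = sqc a + sqc b := by
  classical
  haveI := Fintype.ofFinite F
  have hab := mul_ne_zero ha hb
  have h1 := quadraticChar_one_iff_isSquare ha
  have h2 := quadraticChar_one_iff_isSquare hb
  have h3 := quadraticChar_one_iff_isSquare hab
  have h4 := quadraticChar_dichotomy ha
  have h5 := quadraticChar_dichotomy hb
  rw [map_mul] at h3
  unfold sqc
  rcases h4 with h4 | h4 <;> rcases h5 with h5 | h5 <;> rw [h4] at h1 h3 <;> rw [h5] at h2 h3 <;>
    norm_num at h1 h2 h3 <;> simp [h1, h2, h3] <;> decide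

theorem sqc_eq {F : Type v} [Field F] [Finite F] {a b : F} (ha : a ≠ 0) (hb : b ≠ 0) (h : IsSquare (a * b)) :
    sqc a = sqc b := by
  have h1 := sqc_mul ha hb
  rw [sqc_eq_zero.2 h] at h1
  generalize sqc a = x at h1 ⊢
  generalize sqc b = y at h1 ⊢
  revert x y
  decide

namespace Fr

variable {G : Type u} [Group G] {F : Type v} [Field F] {n : ℕ} (S : Fr G F n)

/-- the cocycle -/
noncomputable def δ (g : ↥S.M) (i : Fin n) : ZMod 2 := sqc (g.2.choose_spec.choose i)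

theorem δ_mul [Finite F] (g h : ↥S.M) (i : Fin n) : S.δ (g * h) i = S.δ g (S.π h i) + S.δ h i := by
  have hg := g.2.choose_spec.choose_spec
  have hh := h.2.choose_spec.choose_spec
  have h1 := ((g * h).2.choose_spec.choose_spec.unique S (hg.mul S hh)).2 i
  unfold δ
  rw [sqc_eq ((g * h).2.choose_spec.choose_spec.1 i) ((hg.mul S hh).1 i) h1, sqc_mul (hg.1 _) (hh.1 _)]
  rfl

theorem Acts.mem [Finite G] {g : G} {σ : Equiv.Perm (Fin n)} {c : Fin n → F} (h : S.Acts g σ c) : g ∈ S.M :=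
  ⟨σ, c, h.1, fun i a _ => h.conj S i a⟩

theorem Acts.π [Finite G] {g : G} {σ : Equiv.Perm (Fin n)} {c : Fin n → F} (h : S.Acts g σ c) :
    S.π ⟨g, h.mem S⟩ = σ :=
  ((h.mem S).choose_spec.choose_spec.unique S ⟨h.1, fun i a _ => h.conj S i a⟩).1

theorem Acts.δ [Finite G] [Finite F] {g : G} {σ : Equiv.Perm (Fin n)} {c : Fin n → F} (h : S.Acts g σ c)
    (i : Fin n) : S.δ ⟨g, h.mem S⟩ i = sqc (c i) :=
  sqc_eq ((h.mem S).choose_spec.choose_spec.1 i) (h.1 i)
    (((h.mem S).choose_spec.choose_spec.unique S ⟨h.1, fun i a _ => h.conj S i a⟩).2 i)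

/-- the root group -/
def X (i : Fin n) : Subgroup G :=
  (MonoidHom.mk' (fun t : Multiplicative F => S.φ i (ut t.toAdd)) (fun a b => by
    rw [toAdd_mul, ← ut_mul, map_mul])).range

theorem mem_X {i : Fin n} {g : G} : g ∈ S.X i ↔ ∃ t, g = S.φ i (ut t) := by
  constructor
  · rintro ⟨t, rfl⟩
    exact ⟨t.toAdd, rfl⟩
  · rintro ⟨t, rfl⟩
    exact ⟨Multiplicative.ofAdd t, rfl⟩

/-- its conjugates -/
def Y (i : Fin n) (x : Matrix.SpecialLinearGroup (Fin 2) F) : Subgroup G := MulAut.conj (S.φ i x) • S.X i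

theorem mem_Y {i : Fin n} {x : Matrix.SpecialLinearGroup (Fin 2) F} {g : G} :
    g ∈ S.Y i x ↔ ∃ t, g = S.φ i (x * ut t * x⁻¹) := by
  unfold Y
  rw [Subgroup.mem_smul_pointwise_iff_exists]
  constructor
  · rintro ⟨_, hs, rfl⟩
    obtain ⟨t, rfl⟩ := S.mem_X.1 hs
    exact ⟨t, by rw [MulAut.smul_def, MulAut.conj_apply, map_mul, map_mul, map_inv]⟩
  · rintro ⟨t, rfl⟩
    exact ⟨_, S.mem_X.2 ⟨t, rfl⟩, by rw [MulAut.smul_def, MulAut.conj_apply, map_mul, map_mul, map_inv]⟩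

theorem Y_one (i : Fin n) : S.Y i 1 = S.X i := by
  unfold Y
  rw [map_one, map_one, one_smul]

theorem Y_mul (i : Fin n) (x y : Matrix.SpecialLinearGroup (Fin 2) F) :
    S.Y i (x * y) = MulAut.conj (S.φ i x) • S.Y i y := by
  unfold Y
  rw [map_mul, map_mul, mul_smul]

theorem Y_eq_iff (i : Fin n) (x y : Matrix.SpecialLinearGroup (Fin 2) F) :
    S.Y i x = S.Y i y ↔ (y⁻¹ * x).1 1 0 = 0 := by
  constructor
  · intro h
    have h1 : S.φ i (x * ut 1 * x⁻¹) ∈ S.Y i x := S.mem_Y.2 ⟨1, rfl⟩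
    rw [h] at h1
    obtain ⟨t, ht⟩ := S.mem_Y.1 h1
    have h2 := S.inj i ht
    have h3 : (y⁻¹ * x) * ut 1 * (y⁻¹ * x)⁻¹ = ut t := by
      rw [_root_.mul_inv_rev, inv_inv]
      calc y⁻¹ * x * ut 1 * (x⁻¹ * y) = y⁻¹ * (x * ut 1 * x⁻¹) * y := by group
        _ = ut t := by rw [h2]; group
    exact (conj_ut_eq one_ne_zero h3).1
  · intro h
    have key : ∀ z : Matrix.SpecialLinearGroup (Fin 2) F, z.1 1 0 = 0 → S.Y i z ≤ S.X i := by
      intro z hz g hg
      obtain ⟨t, rfl⟩ := S.mem_Y.1 hg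
      rw [conj_ut_of hz]
      exact S.mem_X.2 ⟨_, rfl⟩
    have key2 : ∀ z : Matrix.SpecialLinearGroup (Fin 2) F, z.1 1 0 = 0 → S.Y i z = S.X i := by
      intro z hz
      apply le_antisymm (key z hz)
      have h1 := key z⁻¹ (by rw [inv10, hz, neg_zero])
      intro g hg
      have h2 : (S.φ i z)⁻¹ * g * (S.φ i z) ∈ S.Y i z⁻¹ := by
        obtain ⟨t, rfl⟩ := S.mem_X.1 hg
        exact S.mem_Y.2 ⟨t, by rw [map_mul, map_mul, map_inv, inv_inv]⟩
      obtain ⟨t, ht⟩ := S.mem_X.1 (h1 h2)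
      refine S.mem_Y.2 ⟨t, ?_⟩
      rw [map_mul, map_mul, ← ht, map_inv]
      group
    have h2 : x = y * (y⁻¹ * x) := by group
    rw [h2, Y_mul, key2 _ h]
    rfl

/-- the `q + 1` conjugates -/
def e (i : Fin n) : Option F → Subgroup G
  | none => S.Y i wt
  | some t => S.Y i (lo t)

theorem e_inj (i : Fin n) : Function.Injective (S.e i) := by
  rintro (_ | s) (_ | t) h
  · rfl
  · exfalso
    have h1 := (S.Y_eq_iff i _ _).1 h
    rw [lo_inv, mul10] at h1
    simp at h1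
  · exfalso
    have h1 := (S.Y_eq_iff i _ _).1 h.symm
    rw [lo_inv, mul10] at h1
    simp at h1
  · have h1 := (S.Y_eq_iff i _ _).1 h
    rw [lo_inv, lo_mul, lo10] at h1
    rw [show s = t by linear_combination h1]

theorem e_surj (i : Fin n) (x : Matrix.SpecialLinearGroup (Fin 2) F) : ∃ o, S.e i o = S.Y i x := by
  by_cases h : x.1 0 0 = 0
  · refine ⟨none, ?_⟩
    refine ((S.Y_eq_iff i _ _).2 ?_).symm
    rw [mul10, inv10, inv11, h]
    simp
  · refine ⟨some (x.1 1 0 / x.1 0 0), ?_⟩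
    refine ((S.Y_eq_iff i _ _).2 ?_).symm
    rw [mul10, inv10, inv11]
    simp only [lo10, lo00]
    field_simp
    ring

theorem e_mem (i : Fin n) (o : Option F) : ∃ x, S.e i o = S.Y i x := by
  rcases o with _ | t
  · exact ⟨wt, rfl⟩
  · exact ⟨lo t, rfl⟩

/-- the product of the copies -/
noncomputable def Φ : (Fin n → Matrix.SpecialLinearGroup (Fin 2) F) →* G :=
  MonoidHom.noncommPiCoprod S.φ (fun i j hij x y => S.comm i j hij x y)

theorem Φ_single (i : Fin n) (x : Matrix.SpecialLinearGroup (Fin 2) F) :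
    S.Φ (Pi.mulSingle i x) = S.φ i x := MonoidHom.noncommPiCoprod_mulSingle ..

theorem Φ_conj (x : Fin n → Matrix.SpecialLinearGroup (Fin 2) F) (i : Fin n)
    (y : Matrix.SpecialLinearGroup (Fin 2) F) :
    S.Φ x * S.φ i y * (S.Φ x)⁻¹ = S.φ i (x i * y * (x i)⁻¹) := by
  rw [← Φ_single, ← Φ_single, ← map_inv, ← map_mul, ← map_mul]
  congr 1
  funext j
  by_cases h : j = i
  · subst h
    simp
  · simp [Pi.mulSingle_eq_of_ne h]

/-- the group generated by the copies and `T` -/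
def K (T : Subgroup G) : Subgroup G := Subgroup.closure ((S.Φ.range : Set G) ∪ T)

theorem Φ_acts (x : Fin n → Matrix.SpecialLinearGroup (Fin 2) F) : S.Φ x ∈ S.M ∧ S.PermCl (S.Φ x) 1 (fun _ => 1) := by
  have h : S.PermCl (S.Φ x) 1 (fun _ => 1) := by
    refine ⟨fun _ => one_ne_zero, fun i a _ => ?_⟩
    rw [one_mul]
    ext z
    rw [Set.mem_smul_set]
    constructor
    · rintro ⟨_, ⟨y, rfl⟩, rfl⟩
      refine ⟨x i * y, ?_⟩
      rw [MulAut.smul_def, MulAut.conj_apply, Φ_conj]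
      congr 1
      group
    · rintro ⟨y, rfl⟩
      refine ⟨_, ⟨(x i)⁻¹ * y, rfl⟩, ?_⟩
      rw [MulAut.smul_def, MulAut.conj_apply, Φ_conj]
      change S.φ i _ = S.φ i _
      congr 1
      group
  exact ⟨⟨_, _, h⟩, h⟩

variable [Finite G] {T : Subgroup G} (hT : ∀ h ∈ T, ∃ c, S.Acts h 1 c)

include hT in
theorem K_le : S.K T ≤ (S.π.ker).map S.M.subtype := by
  unfold K
  rw [Subgroup.closure_le]
  rintro g (⟨x, rfl⟩ | hg)
  · obtain ⟨h1, h2⟩ := S.Φ_acts x
    refine ⟨⟨_, h1⟩, ?_, rfl⟩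
    exact (h1.choose_spec.choose_spec.unique S h2).1
  · obtain ⟨c, hc⟩ := hT g hg
    exact ⟨⟨g, hc.mem S⟩, hc.π S, rfl⟩

/-- the set of frames of root groups -/
def Ω : Set (Fin n → Subgroup G) := {Y | ∀ i, ∃ x, Y i = S.Y i x}

include hT in
theorem Ω_smul {k : G} (hk : k ∈ S.K T) : ∀ Y ∈ S.Ω, (fun i => MulAut.conj k • Y i) ∈ S.Ω := by
  unfold K at hk
  induction hk using Subgroup.closure_induction with
  | mem g hg =>
    intro Y hY i
    obtain ⟨y, hy⟩ := hY i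
    rcases hg with ⟨x, rfl⟩ | hg
    · refine ⟨x i * y, ?_⟩
      change MulAut.conj (S.Φ x) • Y i = _
      rw [hy]
      ext z
      rw [Subgroup.mem_smul_pointwise_iff_exists, mem_Y]
      constructor
      · rintro ⟨_, hs, rfl⟩
        obtain ⟨t, rfl⟩ := S.mem_Y.1 hs
        refine ⟨t, ?_⟩
        rw [MulAut.smul_def, MulAut.conj_apply, Φ_conj]
        congr 1
        group
      · rintro ⟨t, rfl⟩
        refine ⟨_, S.mem_Y.2 ⟨t, rfl⟩, ?_⟩
        rw [MulAut.smul_def, MulAut.conj_apply, Φ_conj]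
        congr 1
        group
    · obtain ⟨c, hc⟩ := hT g hg
      obtain ⟨y', hy'⟩ := hc.map S i y
      have hX : MulAut.conj g • S.X i = S.X i := by
        ext z
        rw [Subgroup.mem_smul_pointwise_iff_exists, mem_X]
        constructor
        · rintro ⟨_, hs, rfl⟩
          obtain ⟨t, rfl⟩ := S.mem_X.1 hs
          exact ⟨c i * t, by rw [MulAut.smul_def, MulAut.conj_apply, hc.2.1]; rfl⟩
        · rintro ⟨t, rfl⟩
          refine ⟨_, S.mem_X.2 ⟨(c i)⁻¹ * t, rfl⟩, ?_⟩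
          rw [MulAut.smul_def, MulAut.conj_apply, hc.2.1, mul_inv_cancel_left₀ (hc.1 i)]
          rfl
      refine ⟨y', ?_⟩
      change MulAut.conj g • Y i = _
      rw [hy]
      unfold Fr.Y
      have hy2 : S.φ i y' = g * S.φ i y * g⁻¹ := hy'.symm
      have h5 : g * S.φ i y = S.φ i y' * g := by rw [hy2]; group
      rw [← mul_smul, ← map_mul, h5, map_mul, mul_smul, hX]
  | one =>
    intro Y hY
    simpa using hY
  | mul g h _ _ h1 h2 =>
    intro Y hY
    have h3 := h1 _ (h2 Y hY)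
    simpa only [map_mul, mul_smul] using h3
  | inv g _ h1 =>
    have h2 : ∀ m : ℕ, ∀ Y ∈ S.Ω, (fun i => MulAut.conj (g ^ m) • Y i) ∈ S.Ω := by
      intro m
      induction m with
      | zero =>
        intro Y hY
        simpa using hY
      | succ m ih =>
        intro Y hY
        have h3 := ih _ (h1 Y hY)
        simpa only [pow_succ, map_mul, mul_smul] using h3
    have h3 : g⁻¹ = g ^ (orderOf g - 1) := by
      rw [inv_eq_iff_mul_eq_one, ← pow_succ', Nat.sub_add_cancel (orderOf_pos g), pow_orderOf_eq_one]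
    rw [h3]
    exact h2 _

include hT in
theorem card_K [Finite F] : (Nat.card F + 1) ^ n * Nat.card T ∣ Nat.card ↥(S.K T) := by
  letI act : MulAction ↥(S.K T) (Fin n → Subgroup G) :=
    MulAction.compHom (Fin n → Subgroup G) ((MulAut.conj : G →* MulAut G).comp (S.K T).subtype)
  let X0 : Fin n → Subgroup G := fun i => S.X i
  have horb : MulAction.orbit ↥(S.K T) X0 = S.Ω := by
    apply Set.Subset.antisymm
    · rintro _ ⟨k, rfl⟩
      exact S.Ω_smul hT k.2 X0 (fun i => ⟨1, (S.Y_one i).symm⟩)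
    · intro Y hY
      choose x hx using hY
      refine ⟨⟨S.Φ x, Subgroup.subset_closure (Or.inl ⟨x, rfl⟩)⟩, ?_⟩
      funext i
      rw [hx i]
      change MulAut.conj (S.Φ x) • S.X i = _
      ext z
      rw [Subgroup.mem_smul_pointwise_iff_exists, mem_Y]
      constructor
      · rintro ⟨_, hs, rfl⟩
        obtain ⟨t, rfl⟩ := S.mem_X.1 hs
        exact ⟨t, by rw [MulAut.smul_def, MulAut.conj_apply, Φ_conj]⟩
      · rintro ⟨t, rfl⟩
        exact ⟨_, S.mem_X.2 ⟨t, rfl⟩, by rw [MulAut.smul_def, MulAut.conj_apply, Φ_conj]⟩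
  have hcard : Nat.card ↥(MulAction.orbit ↥(S.K T) X0) = (Nat.card F + 1) ^ n := by
    rw [horb]
    have h1 : Function.Bijective (fun o : Fin n → Option F => (⟨fun i => S.e i (o i), fun i => S.e_mem i (o i)⟩ : ↥S.Ω)) := by
      constructor
      · intro o o' h
        funext i
        exact S.e_inj i (congrFun (congrArg Subtype.val h) i)
      · rintro ⟨Y, hY⟩
        choose x hx using id hY
        choose o ho using fun i => S.e_surj i (x i)
        refine ⟨o, Subtype.ext ?_⟩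
        funext i
        change S.e i (o i) = Y i
        rw [ho, hx]
    rw [← Nat.card_congr (Equiv.ofBijective _ h1)]
    haveI := Fintype.ofFinite F
    rw [Nat.card_eq_fintype_card, Nat.card_eq_fintype_card, Fintype.card_fun, Fintype.card_option, Fintype.card_fin]
  have hsplit : Nat.card ↥(S.K T) = Nat.card ↥(MulAction.orbit ↥(S.K T) X0) *
      Nat.card ↥(MulAction.stabilizer ↥(S.K T) X0) := by
    rw [Nat.card_congr (MulAction.orbitEquivQuotientStabilizer ↥(S.K T) X0)]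
    exact Subgroup.card_eq_card_quotient_mul_card_subgroup _
  rw [hsplit, hcard]
  apply mul_dvd_mul_left
  have hTK : T ≤ S.K T := fun g hg => Subgroup.subset_closure (Or.inr hg)
  rw [← Nat.card_congr (Subgroup.subgroupOfEquivOfLe hTK).toEquiv]
  apply Subgroup.card_dvd_of_le
  intro k hk
  obtain ⟨c, hc⟩ := hT k.1 hk
  rw [MulAction.mem_stabilizer_iff]
  funext i
  change MulAut.conj k.1 • S.X i = S.X i
  ext z
  rw [Subgroup.mem_smul_pointwise_iff_exists, mem_X]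
  constructor
  · rintro ⟨_, hs, rfl⟩
    obtain ⟨t, rfl⟩ := S.mem_X.1 hs
    exact ⟨c i * t, by rw [MulAut.smul_def, MulAut.conj_apply, hc.2.1]; rfl⟩
  · rintro ⟨t, rfl⟩
    refine ⟨_, S.mem_X.2 ⟨(c i)⁻¹ * t, rfl⟩, ?_⟩
    rw [MulAut.smul_def, MulAut.conj_apply, hc.2.1, mul_inv_cancel_left₀ (hc.1 i)]
    rfl

include hT in
/-- the order of the stabiliser -/
theorem card_M [Finite F] : (Nat.card F + 1) ^ n * Nat.card T * Nat.card ↥S.π.range ∣ Nat.card ↥S.M := by
  have h1 : Nat.card ↥S.M = Nat.card ↥S.π.ker * Nat.card ↥S.π.range := by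
    rw [← Subgroup.index_ker, Subgroup.card_mul_index]
  rw [h1]
  apply mul_dvd_mul_right
  refine (S.card_K hT).trans ?_
  have h2 : Nat.card ↥((S.π.ker).map S.M.subtype) = Nat.card ↥S.π.ker :=
    Nat.card_congr (Subgroup.equivMapOfInjective _ _ S.M.subtype_injective).toEquiv.symm
  rw [← h2]
  exact Subgroup.card_dvd_of_le (S.K_le hT)

include hT in
/-- the main theorem on frames -/
theorem main [Finite F] :
    ∃ (M : Subgroup G) (π : ↥M →* Equiv.Perm (Fin n)) (δ : ↥M → Fin n → ZMod 2),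
      (∀ g h i, δ (g * h) i = δ g (π h i) + δ h i) ∧
      (∀ g σ c, S.Acts g σ c → ∃ hg : g ∈ M, π ⟨g, hg⟩ = σ ∧ ∀ i, δ ⟨g, hg⟩ i = sqc (c i)) ∧
      (Nat.card F + 1) ^ n * Nat.card T * Nat.card ↥π.range ∣ Nat.card ↥M :=
  ⟨S.M, S.π, S.δ, S.δ_mul, fun _ _ _ h => ⟨h.mem S, h.π S, h.δ S⟩, S.card_M hT⟩

end Fr

end Cfsg.Agent.H158.K547
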